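import Mathlib.GroupTheory.FreeGroup.Reduce
import Mathlib.GroupTheory.FreeGroup.NielsenSchreier
import Mathlib.GroupTheory.SemidirectProduct
import Mathlib.GroupTheory.QuotientGroup.Basic
import Mathlib.GroupTheory.GroupAction.Quotient
import Mathlib.Tactic

/-!
# The fundamental group of a finite graph with a group action

`Q` acts on the edges `E` and vertices `V` of a directed graph. `fund X v₀` consists of the pairs
`(w, q)` in `FreeGroup E ⋊ Q` whose reduced word is a walk from `v₀` to `q • v₀`. Every finite
subgroup is conjugate to one with trivial words (`exists_conj_left_eq_one`), and the pairs with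
`q = 1` form a free group (`isFreeGroup_ker`).
-/

set_option autoImplicit false

namespace Cfsg.Agent.LearyStancu

universe u

/-- A directed graph with an action of `Q`. -/
structure QGraph (Q : Type u) [Group Q] (V E : Type u) [MulAction Q V] [MulAction Q E] where
  src : E → V
  tgt : E → V
  src_smul : ∀ (q : Q) (e : E), src (q • e) = q • src e
  tgt_smul : ∀ (q : Q) (e : E), tgt (q • e) = q • tgt e

variable {Q V E : Type u} [Group Q] [MulAction Q V] [MulAction Q E]

/-- The action of `Q` on the free group on the edges. -/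
def act : Q →* MulAut (FreeGroup E) where
  toFun q := FreeGroup.freeGroupCongr (MulAction.toPerm q)
  map_one' := by
    refine MulEquiv.ext fun x => ?_
    show FreeGroup.map (fun e => (1 : Q) • e) x = x
    rw [show (fun e : E => (1 : Q) • e) = id from funext fun e => one_smul Q e, FreeGroup.map.id]
  map_mul' q r := by
    refine MulEquiv.ext fun x => ?_
    show FreeGroup.map (fun e => (q * r) • e) x = FreeGroup.map (q • ·) (FreeGroup.map (r • ·) x)
    rw [FreeGroup.map.comp]
    congr 2
    exact funext fun e => mul_smul q r e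

namespace QGraph

variable (X : QGraph Q V E)

/-- A walk. -/
def Walk : V → List (E × Bool) → V → Prop
  | a, [], b => a = b
  | a, (e, true) :: L, b => a = X.src e ∧ Walk (X.tgt e) L b
  | a, (e, false) :: L, b => a = X.tgt e ∧ Walk (X.src e) L b

theorem walk_append {L M : List (E × Bool)} : ∀ {a c : V},
    X.Walk a (L ++ M) c ↔ ∃ b, X.Walk a L b ∧ X.Walk b M c := by
  induction L with
  | nil => intro a c; simp [Walk]
  | cons x L ih =>
    intro a c
    obtain ⟨e, b⟩ := x
    cases b <;> simp [Walk, ih, and_assoc]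

theorem walk_smul {L : List (E × Bool)} (q : Q) : ∀ {a b : V}, X.Walk a L b →
    X.Walk (q • a) (L.map fun x => (q • x.1, x.2)) (q • b) := by
  induction L with
  | nil => intro a b h; simp only [Walk] at h; simp [Walk, h]
  | cons x L ih =>
    intro a b h
    obtain ⟨e, s⟩ := x
    cases s <;> simp only [Walk, List.map_cons] at h ⊢
    · exact ⟨by rw [h.1, X.tgt_smul], by rw [X.src_smul]; exact ih h.2⟩
    · exact ⟨by rw [h.1, X.src_smul], by rw [X.tgt_smul]; exact ih h.2⟩

theorem walk_red {L M : List (E × Bool)} (h : FreeGroup.Red L M) {a b : V} (hw : X.Walk a L b) :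
    X.Walk a M b := by
  induction h with
  | refl => exact hw
  | tail _ hs ih =>
    cases hs with
    | @not L₁ L₂ e s =>
      obtain ⟨c, h1, h2⟩ := (X.walk_append).1 ih
      refine (X.walk_append).2 ⟨c, h1, ?_⟩
      cases s <;> simp only [Walk, Bool.not_true, Bool.not_false] at h2
      · rw [h2.1]; exact h2.2.2
      · rw [h2.1]; exact h2.2.2

theorem walk_invRev {L : List (E × Bool)} : ∀ {a b : V}, X.Walk a L b →
    X.Walk b (FreeGroup.invRev L) a := by
  induction L with
  | nil => intro a b h; simp only [Walk] at h; simp [Walk, FreeGroup.invRev, h]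
  | cons x L ih =>
    intro a b h
    obtain ⟨e, s⟩ := x
    have hrev : FreeGroup.invRev ((e, s) :: L) = FreeGroup.invRev L ++ [(e, !s)] := by
      simp [FreeGroup.invRev]
    rw [hrev, walk_append]
    cases s <;> simp only [Walk] at h
    · exact ⟨_, ih h.2, by simp [Walk, h.1]⟩
    · exact ⟨_, ih h.2, by simp [Walk, h.1]⟩

theorem toWord_act [DecidableEq E] (q : Q) (x : FreeGroup E) :
    (act q x).toWord = (x.toWord).map fun y => (q • y.1, y.2) := by
  show (FreeGroup.map (q • ·) x).toWord = _
  conv_lhs => rw [← FreeGroup.mk_toWord (x := x), FreeGroup.map.mk, FreeGroup.toWord_mk]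
  refine FreeGroup.IsReduced.reduce_eq ?_
  refine List.isChain_map_of_isChain _ ?_ (FreeGroup.isReduced_toWord (x := x))
  intro a b hab h
  exact hab (MulAction.injective q h)

/-- Pairs whose word is a walk from `v₀` to `q • v₀`. -/
noncomputable def fund [DecidableEq E] (v₀ : V) : Subgroup (FreeGroup E ⋊[act] Q) :=
  { carrier := {g | X.Walk v₀ g.left.toWord (g.right • v₀)}
    one_mem' := by simp [Walk, FreeGroup.toWord_one]
    mul_mem' := by
      intro g h hg hh
      show X.Walk v₀ (g.left * act g.right h.left).toWord ((g.right * h.right) • v₀)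
      rw [FreeGroup.toWord_mul, mul_smul, toWord_act]
      exact X.walk_red FreeGroup.reduce.red (X.walk_append.2 ⟨_, hg, X.walk_smul g.right hh⟩)
    inv_mem' := by
      intro g hg
      show X.Walk v₀ (act g.right⁻¹ g.left⁻¹).toWord (g.right⁻¹ • v₀)
      rw [toWord_act, FreeGroup.toWord_inv]
      have := X.walk_smul g.right⁻¹ (X.walk_invRev hg)
      rwa [inv_smul_smul] at this }

theorem mem_fund [DecidableEq E] {v₀ : V} {g : FreeGroup E ⋊[act] Q} :
    g ∈ X.fund v₀ ↔ X.Walk v₀ g.left.toWord (g.right • v₀) := Iff.rfl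

/-- The projection to `Q`. -/
noncomputable def proj [DecidableEq E] (v₀ : V) : X.fund v₀ →* Q :=
  SemidirectProduct.rightHom.comp (X.fund v₀).subtype

theorem isFreeGroup_ker [DecidableEq E] (v₀ : V) : IsFreeGroup (X.proj v₀).ker := by
  let f : (X.proj v₀).ker →* FreeGroup E :=
    { toFun := fun x => ((x : X.fund v₀) : FreeGroup E ⋊[act] Q).left
      map_one' := rfl
      map_mul' := fun x y => by
        show ((x : X.fund v₀) : FreeGroup E ⋊[act] Q).left *
          act ((x : X.fund v₀) : FreeGroup E ⋊[act] Q).right _ = _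
        rw [show ((x : X.fund v₀) : FreeGroup E ⋊[act] Q).right = 1 from x.2, map_one]
        rfl }
  have hf : Function.Injective f := fun x y h =>
    Subtype.ext (Subtype.ext (SemidirectProduct.ext h (x.2.trans y.2.symm)))
  exact IsFreeGroup.ofMulEquiv (MonoidHom.ofInjective hf).symm

variable [DecidableEq E]

/-- The distance between two vertices of the tree. -/
def dist (u p : FreeGroup E) : ℕ := (u⁻¹ * p).toWord.length

theorem dist_step (u p : FreeGroup E) (l : E × Bool) :
    ((dist u p = dist (u * FreeGroup.mk [l]) p + 1) ∧ (u⁻¹ * p).toWord.head? = some l) ∨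
    (dist (u * FreeGroup.mk [l]) p = dist u p + 1 ∧ (u⁻¹ * p).toWord.head? ≠ some l) := by
  obtain ⟨e, s⟩ := l
  set w := (u⁻¹ * p).toWord with hw
  have h1 : (u * FreeGroup.mk [(e, s)])⁻¹ * p = FreeGroup.mk [(e, !s)] * (u⁻¹ * p) := by
    rw [mul_inv_rev, mul_assoc, FreeGroup.inv_mk]
    rfl
  by_cases hh : w.head? = some (e, s)
  · left
    refine ⟨?_, hh⟩
    obtain ⟨t, ht⟩ : ∃ t, w = (e, s) :: t := by
      cases hw' : w with
      | nil => rw [hw'] at hh; simp at hh
      | cons a t => rw [hw'] at hh; simp at hh; exact ⟨t, by rw [hh]⟩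
    have h2 : (FreeGroup.mk [(e, !s)] * (u⁻¹ * p)).toWord = t := by
      have hm : FreeGroup.mk [(e, !s)] * (u⁻¹ * p) = FreeGroup.mk t := by
        rw [← FreeGroup.mk_toWord (x := u⁻¹ * p), ← hw, ht, FreeGroup.mul_mk]
        refine FreeGroup.Red.exact.2 ⟨t, ?_, Relation.ReflTransGen.refl⟩
        refine Relation.ReflTransGen.single ?_
        simp only [List.singleton_append]
        exact FreeGroup.Red.Step.cons_not_rev
      rw [hm, FreeGroup.toWord_mk]
      refine FreeGroup.IsReduced.reduce_eq ?_
      have hr : FreeGroup.IsReduced w := FreeGroup.isReduced_toWord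
      rw [ht] at hr
      exact hr.infix ⟨[(e, s)], [], by simp⟩
    unfold dist
    rw [h1, h2, ← hw, ht, List.length_cons]
  · right
    refine ⟨?_, hh⟩
    unfold dist
    rw [h1, FreeGroup.toWord_mul, FreeGroup.toWord_mk, ← hw]
    have hone : FreeGroup.reduce [(e, !s)] = [(e, !s)] :=
      FreeGroup.IsReduced.reduce_eq FreeGroup.IsReduced.singleton
    rw [hone, FreeGroup.IsReduced.reduce_eq]
    · simp
    have hr : FreeGroup.IsReduced w := FreeGroup.isReduced_toWord
    cases hw' : w with
    | nil => simp
    | cons a t =>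
      rw [hw'] at hr hh
      simp only [List.singleton_append]
      refine FreeGroup.isReduced_cons_cons.2 ⟨fun h => ?_, hr⟩
      obtain ⟨a, a'⟩ := a
      simp only at h ⊢
      subst h
      cases s <;> cases a' <;> first | rfl | (exfalso; exact hh (by simp [← hw]))

/-- The sum of the squared distances to a finite family. -/
def energy {ι : Type*} [Fintype ι] (o : ι → FreeGroup E) (u : FreeGroup E) : ℕ :=
  ∑ i, dist u (o i) ^ 2

theorem energy_convex {ι : Type*} [Fintype ι] [Nonempty ι] (o : ι → FreeGroup E) (v : FreeGroup E)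
    {l l' : E × Bool} (hne : l ≠ l') :
    2 * energy o v < energy o (v * FreeGroup.mk [l]) + energy o (v * FreeGroup.mk [l']) := by
  unfold energy
  rw [Finset.mul_sum, ← Finset.sum_add_distrib]
  refine Finset.sum_lt_sum_of_nonempty Finset.univ_nonempty fun i _ => ?_
  rcases dist_step v (o i) l with ⟨h1, h1'⟩ | ⟨h1, -⟩ <;>
    rcases dist_step v (o i) l' with ⟨h2, h2'⟩ | ⟨h2, -⟩
  · exact absurd (Option.some.inj (h1'.symm.trans h2')) hne
  · rw [h2, h1]; ring_nf; omega
  · rw [h1, h2]; ring_nf; omega
  · rw [h1, h2]; ring_nf; omega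

/-- Along a reduced word leaving a minimum the energy increases from the second step. -/
theorem energy_growth {ι : Type*} [Fintype ι] [Nonempty ι] (o : ι → FreeGroup E) :
    ∀ (L : List (E × Bool)) (u : FreeGroup E) (l : E × Bool), FreeGroup.IsReduced (l :: L) →
      energy o u ≤ energy o (u * FreeGroup.mk [l]) → L ≠ [] →
      energy o u < energy o (u * FreeGroup.mk (l :: L))
  | [], _, _, _, _, h => absurd rfl h
  | m :: L, u, l, hr, hle, _ => by
    set v := u * FreeGroup.mk [l] with hv
    have hu : u = v * FreeGroup.mk [(l.1, !l.2)] := by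
      rw [hv, mul_assoc, show FreeGroup.mk [(l.1, !l.2)] = (FreeGroup.mk [l])⁻¹ by
        rw [FreeGroup.inv_mk]; rfl, mul_inv_cancel, mul_one]
    have hne : (l.1, !l.2) ≠ m := by
      rintro rfl
      have := (FreeGroup.isReduced_cons_cons.1 hr).1 rfl
      simp at this
    have hc := energy_convex o v hne
    rw [← hu] at hc
    have hlt : energy o v < energy o (v * FreeGroup.mk [m]) := by omega
    have hexp : u * FreeGroup.mk (l :: m :: L) = v * FreeGroup.mk (m :: L) := by
      rw [hv, mul_assoc, FreeGroup.mul_mk]; rfl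
    rw [hexp]
    by_cases hL : L = []
    · subst hL; omega
    · have := energy_growth o L v m (FreeGroup.isReduced_cons_cons.1 hr).2 hlt.le hL
      omega

/-- Every finite subgroup of `fund` is conjugate into the elements with trivial word. -/
theorem exists_conj_left_eq_one {v₀ : V} (hpre : ∀ (L : List (E × Bool)) (b : V), X.Walk v₀ L b →
      ∃ q : Q, q • v₀ = b) (H : Subgroup (X.fund v₀)) [Finite H] :
    ∃ g : X.fund v₀, ∀ h ∈ H, ((g * h * g⁻¹ : X.fund v₀) : FreeGroup E ⋊[act] Q).left = 1 := by
  classical
  have : Fintype H := Fintype.ofFinite H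
  let pt : X.fund v₀ → FreeGroup E := fun g => (g : FreeGroup E ⋊[act] Q).left
  let T : X.fund v₀ → FreeGroup E → FreeGroup E := fun h u =>
    (h : FreeGroup E ⋊[act] Q).left * act (h : FreeGroup E ⋊[act] Q).right u
  have hpt : ∀ a b, pt (a * b) = T a (pt b) := fun a b => rfl
  have hdist : ∀ a u p, dist (T a u) (T a p) = dist u p := by
    intro a u p
    unfold dist
    simp only [T, mul_inv_rev, mul_assoc, inv_mul_cancel_left]
    rw [← map_inv, ← map_mul, toWord_act, List.length_map]
  let o : H → FreeGroup E := fun h => pt h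
  have hinv : ∀ (h : H) u, energy o (T h u) = energy o u := by
    intro h u
    unfold energy
    rw [← Equiv.sum_comp (Equiv.mulLeft h) fun i => dist (T h u) (o i) ^ 2]
    refine Finset.sum_congr rfl fun i _ => ?_
    show dist (T h u) (pt ((h : X.fund v₀) * i)) ^ 2 = _
    rw [hpt, hdist]
  have hmem : ∀ w : FreeGroup E, (∃ b, X.Walk v₀ w.toWord b) → ∃ g, pt g = w := by
    rintro w ⟨b, hb⟩
    obtain ⟨q, hq⟩ := hpre _ _ hb
    exact ⟨⟨⟨w, q⟩, X.mem_fund.2 (by rw [hq]; exact hb)⟩, rfl⟩
  obtain ⟨g, -, hg⟩ := Nat.find_spec (⟨_, 1, trivial, rfl⟩ :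
    ∃ n : ℕ, ∃ g : X.fund v₀, True ∧ energy o (pt g) = n)
  have hmin : ∀ g' : X.fund v₀, energy o (pt g) ≤ energy o (pt g') := fun g' => by
    rw [hg]; exact Nat.find_min' _ ⟨g', trivial, rfl⟩
  refine ⟨g⁻¹, fun h hh => ?_⟩
  have hkey : pt (h * g) = pt g := by
    by_contra hne
    have hk : pt (g⁻¹ * (h * g)) ≠ 1 := by
      intro h1
      apply hne
      have := hpt g (g⁻¹ * (h * g))
      rw [mul_inv_cancel_left, h1] at this
      simp only [T, map_one, mul_one] at this
      exact this
    obtain ⟨⟨w, r⟩, hw⟩ : ∃ x : FreeGroup E ⋊[act] Q, x = ((g⁻¹ * (h * g) : X.fund v₀) : _) :=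
      ⟨_, rfl⟩
    have hwalk : X.Walk v₀ w.toWord (r • v₀) :=
      X.mem_fund.1 (hw ▸ (g⁻¹ * (h * g) : X.fund v₀).2)
    have hpw : pt (g⁻¹ * (h * g)) = w := by simp only [pt, ← hw]
    have hsame : energy o (T g w) = energy o (pt g) := by
      rw [← hpw, ← hpt, mul_inv_cancel_left, hpt]
      exact hinv ⟨h, hh⟩ _
    set q := (g : FreeGroup E ⋊[act] Q).right with hq
    cases hL : w.toWord with
    | nil => exact hk (hpw.trans (FreeGroup.toWord_eq_nil_iff.1 hL))
    | cons l L =>
      have hr : FreeGroup.IsReduced (l :: L) := hL ▸ FreeGroup.isReduced_toWord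
      have hTw : T g w = pt g * FreeGroup.mk ((l :: L).map fun y => (q • y.1, y.2)) := by
        rw [← hL, ← toWord_act, FreeGroup.mk_toWord]
      obtain ⟨g₁, hg₁⟩ := hmem (FreeGroup.mk [l]) (by
        rw [FreeGroup.toWord_mk, FreeGroup.IsReduced.reduce_eq FreeGroup.IsReduced.singleton]
        rw [hL, show l :: L = [l] ++ L from rfl, X.walk_append] at hwalk
        exact ⟨_, hwalk.choose_spec.1⟩)
      have hle : energy o (pt g) ≤ energy o (pt g * FreeGroup.mk [(q • l.1, l.2)]) := by
        have := hmin (g * g₁)
        rw [hpt, hg₁] at this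
        convert this using 2
        show _ = pt g * act q (FreeGroup.mk [l])
        rfl
      by_cases hLn : L = []
      · -- an edge cannot be inverted
        subst hLn
        have e1 : T h (pt g) = pt g * FreeGroup.mk [(q • l.1, l.2)] := by
          rw [← hpt]
          calc pt (h * g) = pt (g * (g⁻¹ * (h * g))) := by rw [mul_inv_cancel_left]
            _ = T g w := by rw [hpt, hpw]
            _ = _ := by rw [hTw]; rfl
        set r' := ((h : X.fund v₀) : FreeGroup E ⋊[act] Q).right
        set a := (q • l.1, l.2)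
        -- the energies at both ends agree, so the point `h` moves the edge to the next one
        have hh2 : T h (T h (pt g)) =
            pt g * FreeGroup.mk [a] * FreeGroup.mk [(r' • a.1, a.2)] := by
          rw [e1]
          show ((h : X.fund v₀) : FreeGroup E ⋊[act] Q).left * act r' (pt g * FreeGroup.mk [a]) = _
          rw [map_mul, ← mul_assoc, show ((h : X.fund v₀) : FreeGroup E ⋊[act] Q).left *
            act r' (pt g) = T h (pt g) from rfl, e1]
          rfl
        have hne' : (a.1, !a.2) ≠ (r' • a.1, a.2) := fun h' => by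
          simpa using congrArg Prod.snd h'
        have hc := energy_convex o (pt g * FreeGroup.mk [a]) hne'
        rw [← hh2, mul_assoc, show FreeGroup.mk [(a.1, !a.2)] = (FreeGroup.mk [a])⁻¹ by
          rw [FreeGroup.inv_mk]; rfl, mul_inv_cancel, mul_one] at hc
        have i1 : energy o (T h (pt g)) = energy o (pt g) := hinv ⟨h, hh⟩ _
        have i2 : energy o (T h (T h (pt g))) = energy o (T h (pt g)) := hinv ⟨h, hh⟩ _
        have i3 := congrArg (energy o) e1
        omega
      · have hr' : FreeGroup.IsReduced ((q • l.1, l.2) :: L.map fun y => (q • y.1, y.2)) := by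
          refine List.isChain_map_of_isChain (fun y : E × Bool => (q • y.1, y.2)) ?_ hr
          intro a b hab h
          exact hab (MulAction.injective q h)
        have hgrow := energy_growth o _ (pt g) _ hr' hle (by simpa using hLn)
        rw [hTw, List.map_cons] at hsame
        omega
  have : pt (g⁻¹ * h * g⁻¹⁻¹) = pt (g⁻¹ * g) := by
    rw [inv_inv, mul_assoc, hpt, hkey, ← hpt]
  rw [inv_mul_cancel] at this
  exact this

end QGraph

end Cfsg.Agent.LearyStancu
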